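import Groth.Agent.S2894
import Groth.Agent.S3829
import Groth.Agent.RegImmSmooth.Main
import Groth.Agent.KoszulLCI.FibrewiseClosed
import Groth.Agent.Ega4Algebra2.BlowNormFlat
import Groth.Agent.Ega4Algebra2.FlatPowers
import Mathlib

/-!
The blow-up of a smooth scheme along a smooth centre is smooth.
-/

set_option autoImplicit false
universe u

open CategoryTheory CategoryTheory.Limits AlgebraicGeometry TopologicalSpace

namespace Groth.Misc5Blow

/-- The blow-up of a flat finitely presented scheme along a regularly immersed flat centre is locally of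
finite presentation. -/
theorem locallyOfFinitePresentation_blowUp {Z X X' S : Scheme.{u}} (q : X ⟶ S) [Flat q]
    [LocallyOfFinitePresentation q] (i : Z ⟶ X) (hi : Mor2.IsRegularClosedImmersion i) [Flat (i ≫ q)]
    (b : X' ⟶ X) (hb : BlowUp.IsBlowUp b i.ker) : LocallyOfFinitePresentation b := by
  classical
  have := hi.1
  let O : X.Opens := ⟨(i.ker.support : Set X)ᶜ, i.ker.support.isClosed.isOpen_compl⟩
  have : IsIso (b ∣_ O) := Groth.BlowUpBasics.isIso_morphismRestrict hb O disjoint_compl_right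
  have hO : LocallyOfFinitePresentation ((b ⁻¹ᵁ O).ι ≫ b) := by
    rw [← morphismRestrict_ι]; infer_instance
  have hloc : ∀ x' : X', ∃ W : X'.Opens, x' ∈ W ∧ LocallyOfFinitePresentation (W.ι ≫ b) := by
    intro x'
    by_cases hx : b x' ∈ i.ker.support
    · rw [← SetLike.mem_coe, Scheme.Hom.support_ker, (i.isClosedEmbedding.isClosed_range).closure_eq] at hx
      obtain ⟨z, hz⟩ := hx
      obtain ⟨U₁, hU₁, hzU₁, rs, hrs, hker⟩ := hi.2 z
      obtain ⟨_, ⟨V : S.Opens, hV, rfl⟩, hzV, -⟩ :=
        S.isBasis_affineOpens.exists_subset_of_mem_open (Set.mem_univ (q (i z))) isOpen_univ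
      obtain ⟨r, hrle, hzr⟩ := hU₁.exists_basicOpen_le (V := q ⁻¹ᵁ V) ⟨i z, hzV⟩ hzU₁
      set U := X.basicOpen r with hUdef
      have hU : IsAffineOpen U := hU₁.basicOpen r
      let ρ : Γ(X, U₁) →+* Γ(X, U) := (X.presheaf.map (homOfLE (X.basicOpen_le r)).op).hom
      have hρ : ρ.Flat := by
        letI := ρ.toAlgebra
        have : IsLocalization.Away r Γ(X, U) := hU₁.isLocalization_basicOpen r
        exact IsLocalization.flat Γ(X, U) (Submonoid.powers r)
      have hreg : RingTheory.Sequence.IsWeaklyRegular Γ(X, U) (List.ofFn fun k => ρ (rs.get k)) := by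
        letI := ρ.toAlgebra
        have : Module.Flat Γ(X, U₁) Γ(X, U) := hρ
        have h := hrs.toIsWeaklyRegular.of_flat (S := Γ(X, U))
        rw [← List.ofFn_get rs, List.map_ofFn] at h
        exact h
      have hideal : i.ker.ideal ⟨U, hU⟩ = Ideal.span (Set.range fun k => ρ (rs.get k)) := by
        refine (i.ker.map_ideal_basicOpen ⟨U₁, hU₁⟩ r).symm.trans ?_
        rw [hker, Ideal.ofList, Ideal.map_span,
          show (fun k => ρ (rs.get k)) = ρ ∘ rs.get from rfl, Set.range_comp, Set.range_list_get]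
      let g : Fin rs.length → Γ(X, U) := fun k => ρ (rs.get k)
      letI := (q.appLE V U hrle).hom.toAlgebra
      have hfp : Algebra.FinitePresentation Γ(S, V) Γ(X, U) := q.finitePresentation_appLE hV hU hrle
      have hflat : Module.Flat Γ(S, V) Γ(X, U) := HasRingHomProperty.appLE (P := @Flat) q ‹_› ⟨V, hV⟩ ⟨U, hU⟩ hrle
      have hquot : Module.Flat Γ(S, V) (Γ(X, U) ⧸ Ideal.span (Set.range g)) := by
        have h1 : Flat (i.ker.subschemeι ≫ q) := by
          have : IsIso i.toImage := inferInstance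
          have e : i.ker.subschemeι ≫ q = inv i.toImage ≫ (i ≫ q) := by
            rw [IsIso.eq_inv_comp, ← Category.assoc]
            exact congrArg (· ≫ q) i.toImage_imageι
          rw [e]; infer_instance
        have := Groth.Ega4Algebra2.BlowNormFlat.flat_quotient q i.ker ⟨U, hU⟩ ⟨V, hV⟩ hrle
        rwa [hideal] at this
      have hpow : ∀ n, Module.Flat Γ(S, V) (Γ(X, U) ⧸ Ideal.span (Set.range g) ^ n) := fun n =>
        Groth.Ega4b.FlatPow.flat_quotient_pow g
          (Groth.EGA41Two.isQuasiRegular_of_isWeaklyRegular g hreg) hquot n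
      obtain ⟨a, ha, W, h, hxW, ε, hε⟩ :=
        Groth.Ega4Algebra2.BlowNormFlat.exists_chartIso hb ⟨U, hU⟩ x' (hz ▸ hzr)
      have hC : Algebra.FinitePresentation Γ(X, U)
          (BlowUp.affineAlgebra Γ(X, U) (Ideal.span (Set.range g)) a) :=
        Groth.Ega4Algebra2.ReesFP.finitePresentation_chart (R := Γ(S, V)) a g hpow (hideal ▸ ha)
      rw [← hideal] at hC
      have hfp' : (b.appLE U W.1 h).hom.FinitePresentation := by
        rw [show (b.appLE U W.1 h).hom = ε.symm.toRingHom.comp (algebraMap Γ(X, U)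
            (BlowUp.affineAlgebra Γ(X, U) (i.ker.ideal ⟨U, hU⟩) a)) from
          RingHom.ext fun x => ε.injective ((hε x).trans (ε.apply_symm_apply _).symm)]
        exact RingHom.FinitePresentation.comp (RingHom.FinitePresentation.of_bijective ε.symm.bijective)
          (RingHom.finitePresentation_algebraMap.mpr hC)
      refine ⟨W.1, hxW, ?_⟩
      have h1 : LocallyOfFinitePresentation (Spec.map (b.appLE U W.1 h)) :=
        (HasRingHomProperty.Spec_iff (P := @LocallyOfFinitePresentation)).mpr hfp'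
      have h2 : W.1.ι = W.2.isoSpec.hom ≫ W.2.fromSpec := by
        rw [IsAffineOpen.isoSpec_hom_fromSpec]
      rw [h2, Category.assoc, ← IsAffineOpen.SpecMap_appLE_fromSpec b hU W.2 h]
      infer_instance
    · exact ⟨b ⁻¹ᵁ O, hx, hO⟩
  choose W hW hWP using hloc
  exact IsZariskiLocalAtSource.of_iSup_eq_top W
    (TopologicalSpace.Opens.ext (Set.eq_univ_of_forall fun x => Opens.mem_iSup.mpr ⟨x, hW x⟩)) hWP

/-- The blow-up of a smooth scheme along a smooth centre, and its exceptional divisor, are smooth. -/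
theorem smooth_blowUp {Z X X' S : Scheme.{u}} (q : X ⟶ S) [Smooth q] (i : Z ⟶ X) [IsClosedImmersion i]
    [Smooth (i ≫ q)] (b : X' ⟶ X) (hb : BlowUp.IsBlowUp b i.ker) :
    Smooth (b ≫ q) ∧ Smooth ((BlowUp.exceptional b i.ker).subschemeι ≫ b ≫ q) := by
  have hi : Mor2.IsRegularClosedImmersion i := (Groth.KoszulLCI.mor2_iff_regImm i).2
    (Groth.RegImmSmooth.isRegularImmersion q (i ≫ q) i rfl)
  let j := (BlowUp.exceptional b i.ker).subschemeι
  have hle : i.ker ≤ (j ≫ b).ker := by
    rw [Scheme.Hom.ker_comp, Scheme.IdealSheafData.ker_subschemeι]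
    exact Scheme.IdealSheafData.le_map_comap _ _
  let g := IsClosedImmersion.lift i (j ≫ b) hle
  have hg : g ≫ i = j ≫ b := IsClosedImmersion.lift_fac i (j ≫ b) hle
  have := Groth.Agent.S2894.result i hi b hb g hg
  have hE : Smooth (j ≫ b ≫ q) := by
    rw [← Category.assoc, ← hg, Category.assoc]; infer_instance
  refine ⟨?_, hE⟩
  have := locallyOfFinitePresentation_blowUp q i hi b hb
  rw [← Scheme.Hom.smoothLocus_eq_top_iff]
  refine TopologicalSpace.Opens.ext (Set.eq_univ_iff_forall.mpr fun x => ?_)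
  suffices h : ∃ W : X'.Opens, x ∈ W ∧ Smooth (W.ι ≫ b ≫ q) by
    obtain ⟨W, hxW, hW⟩ := h
    have : W.ι ⁻¹ᵁ (b ≫ q).smoothLocus = ⊤ := by
      rw [Scheme.Hom.preimage_smoothLocus_eq]; exact (W.ι ≫ b ≫ q).smoothLocus_eq_top
    exact this.ge (show (⟨x, hxW⟩ : W) ∈ (⊤ : W.toScheme.Opens) from trivial)
  by_cases hx : x ∈ (BlowUp.exceptional b i.ker).support
  · rw [← SetLike.mem_coe, ← Scheme.IdealSheafData.range_subschemeι] at hx
    obtain ⟨y, rfl⟩ := hx
    refine Groth.Agent.S3829.result (b ≫ q) (j ≫ b ≫ q) j rfl y ⟨⊤, trivial, ?_⟩ ?_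
    · have := hE
      infer_instance
    · obtain ⟨U, hyU, f, hf, hfe⟩ := hb.1 (j y)
      refine ⟨U.1, U.2, hyU, [f], ⟨(RingTheory.Sequence.isWeaklyRegular_singleton_iff _ _).2 ?_, ?_⟩, ?_⟩
      · exact fun a c h => (mul_cancel_left_mem_nonZeroDivisors hf).1 h
      · rw [Ideal.ofList_singleton, smul_eq_mul, Ideal.mul_top]
        intro htop
        have h1 : j y ∈ ((BlowUp.exceptional b i.ker).support : Set X') :=
          Scheme.IdealSheafData.range_subschemeι _ ▸ ⟨y, rfl⟩
        have h2 := ((BlowUp.exceptional b i.ker).coe_support_inter U).le ⟨h1, hyU⟩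
        rw [hfe, ← htop] at h2
        exact (Scheme.mem_zeroLocus_iff _ _ _).1 h2.1 1 trivial (by simpa using hyU)
      · rw [Scheme.IdealSheafData.ker_subschemeι, Ideal.ofList_singleton]
        exact hfe
  · let O : X.Opens := ⟨(i.ker.support : Set X)ᶜ, i.ker.support.isClosed.isOpen_compl⟩
    have : IsIso (b ∣_ O) := Groth.BlowUpBasics.isIso_morphismRestrict hb O disjoint_compl_right
    refine ⟨b ⁻¹ᵁ O, ?_, ?_⟩
    · intro h
      apply hx
      rw [← SetLike.mem_coe, Scheme.IdealSheafData.support_comap]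
      exact h
    · rw [← morphismRestrict_ι_assoc]; infer_instance

end Groth.Misc5Blow
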